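import Groth.Agent.FlatClosEq96.Core

/-!
The flat closure over a discrete valuation ring.
-/

set_option autoImplicit false
universe u
open CategoryTheory AlgebraicGeometry Limits Topology TopologicalSpace

namespace Groth.Agent.FlatClosEq96

variable {R : Type u} [CommRing R] [IsDomain R] [IsDiscreteValuationRing R]
  {P T : Scheme.{u}} (π : P ⟶ Spec (CommRingCat.of R))
  (j : T ⟶ P) (πT : T ⟶ Spec (CommRingCat.of (FractionRing R)))

local notation "k₀" => Spec.map (CommRingCat.ofHom (algebraMap R (FractionRing R)))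

/-- The scheme-theoretic image of a scheme living over the fraction field is flat. -/
theorem flat_image [QuasiCompact j] (w : j ≫ π = πT ≫ k₀) : Flat (j.imageι ≫ π) := by
  refine (HasRingHomProperty.iff_of_iSup_eq_top (P := @Flat)
    (fun V : P.affineOpens => ⟨j.imageι ⁻¹ᵁ V.1, V.2.preimage j.imageι⟩) ?_).2 fun V => ?_
  · refine eq_top_iff.2 fun v _ => ?_
    obtain ⟨_, ⟨U, hU, rfl⟩, hvU, -⟩ :=
      P.isBasis_affineOpens.exists_subset_of_mem_open (Set.mem_univ (j.imageι v)) isOpen_univ
    exact Opens.mem_iSup.2 ⟨⟨U, hU⟩, hvU⟩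
  · let W := j.imageι ⁻¹ᵁ V.1
    let q := j.imageι ≫ π
    let φ : R →+* Γ(j.image, W) := (q.appLE ⊤ W le_top).hom.comp (Scheme.ΓSpecIso (CommRingCat.of R)).inv.hom
    letI := φ.toAlgebra
    have htf : ∀ (a : R), a ≠ 0 → ∀ m : Γ(j.image, W), φ a * m = 0 → m = 0 := by
      intro a ha m hm
      apply j.toImage_app_injective V
      rw [map_zero]
      have hu : IsUnit (j.toImage.app W (φ a)) := by
        have hcomp : q.appLE ⊤ W le_top ≫ j.toImage.app W =
            (k₀).appTop ≫ πT.appLE ⊤ (j.toImage ⁻¹ᵁ W) le_top := by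
          have hle : W ≤ q ⁻¹ᵁ ⊤ := le_top
          have h4 := Scheme.Hom.appLE_comp_appLE j.toImage q ⊤ W (j.toImage ⁻¹ᵁ W) hle le_rfl
          have h5 := Scheme.Hom.appLE_comp_appLE πT k₀ ⊤ ⊤ (j.toImage ⁻¹ᵁ W) le_top le_top
          have e1 : j.toImage ≫ q = πT ≫ k₀ := by rw [Scheme.Hom.toImage_imageι_assoc, w]
          rw [Scheme.Hom.app_eq_appLE]
          refine h4.trans ?_
          simp only [e1]
          refine h5.symm.trans ?_
          congr 1
        have h1 := congr(($hcomp) ((Scheme.ΓSpecIso (CommRingCat.of R)).inv a))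
        simp only [CommRingCat.comp_apply] at h1
        show IsUnit (j.toImage.app W (q.appLE ⊤ W le_top ((Scheme.ΓSpecIso (CommRingCat.of R)).inv a)))
        rw [h1]
        refine IsUnit.map _ ?_
        have h2 := congr($(Scheme.ΓSpecIso_inv_naturality (CommRingCat.ofHom (algebraMap R (FractionRing R)))) a)
        simp only [CommRingCat.comp_apply] at h2
        erw [← h2]
        exact IsUnit.map (Scheme.ΓSpecIso (CommRingCat.of (FractionRing R))).inv.hom
          (isUnit_iff_ne_zero.2 ((map_ne_zero_iff _ (IsFractionRing.injective R (FractionRing R))).2 ha) :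
            IsUnit (algebraMap R (FractionRing R) a))
      have h3 := congrArg (j.toImage.app W) hm
      rw [map_mul, map_zero] at h3
      exact hu.mul_right_eq_zero.1 h3
    haveI : Module.IsTorsionFree R Γ(j.image, W) := by
      refine Submodule.isTorsionFree_iff_torsion_eq_bot.2 (eq_bot_iff.2 ?_)
      rintro m ⟨⟨a, ha⟩, hm⟩
      exact (Submodule.mem_bot R).2 (htf a (nonZeroDivisors.ne_zero ha) m hm)
    have hflat : φ.Flat := (inferInstance : Module.Flat R Γ(j.image, W))
    have he : (q.appLE ⊤ W le_top).hom = φ.comp (Scheme.ΓSpecIso (CommRingCat.of R)).hom.hom := by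
      show _ = ((q.appLE ⊤ W le_top).hom.comp _).comp _
      rw [RingHom.comp_assoc, ← CommRingCat.hom_comp, Iso.hom_inv_id]
      rfl
    show (q.appLE ⊤ W le_top).hom.Flat
    rw [he]
    exact (RingHom.Flat.of_bijective
      (ConcreteCategory.bijective_of_isIso (Scheme.ΓSpecIso (CommRingCat.of R)).hom)).comp hflat

/-- The generic fibre of the scheme-theoretic image of the generic fibre. -/
theorem isPullback_toImage (H : IsPullback j πT π k₀) :
    IsPullback j.toImage πT (j.imageι ≫ π) k₀ := by
  have w : j.toImage ≫ j.imageι ≫ π = πT ≫ k₀ := by rw [Scheme.Hom.toImage_imageι_assoc, H.w]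
  refine ⟨⟨w⟩, ⟨PullbackCone.IsLimit.mk w
    (fun s => H.lift (s.fst ≫ j.imageι) s.snd (by rw [Category.assoc, s.condition])) (fun s => ?_)
    (fun s => H.lift_snd _ _ _) (fun s m h1 h2 => ?_)⟩⟩
  · rw [← cancel_mono j.imageι, Category.assoc, Scheme.Hom.toImage_imageι, H.lift_fst]
  · refine H.hom_ext ?_ ?_
    · rw [H.lift_fst, ← h1, Category.assoc, Scheme.Hom.toImage_imageι]
    · rw [H.lift_snd, h2]

end Groth.Agent.FlatClosEq96
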