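import Groth.Agent.AlgSpD.FibreDimBC
import Groth.Agent.GUOpen.Crit
import Groth.Agent.FlatMisc.FlatFibreDimGen
import Groth.Agent.EquidimPt.Component
import Groth.Agent.FibBound.Basic

/-!
Equidimensionality of flat morphisms from the fibres over maximal points.
-/

set_option autoImplicit false
universe u
open CategoryTheory AlgebraicGeometry Limits Topology TopologicalSpace

namespace Groth.Agent.FlatClosEq96

/-- A flat morphism of finite type whose fibres over maximal points of the base are equidimensional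
of dimension `r` has local fibre dimension `r` everywhere. -/
theorem fibreDimAt_eq_of_flat {T B : Scheme.{u}} (g : T ⟶ B) [Flat g] [LocallyOfFiniteType g] (r : ℕ)
    (h : ∀ w, (∀ y, y ⤳ g w → y = g w) → FlatMor.fibreDimAt g w = r) (w : T) :
    FlatMor.fibreDimAt g w = r := by
  obtain ⟨ξ, hξw, hξ⟩ := FibSemi.exists_max_specializes w
  have hmax : ∀ y, y ⤳ g ξ → y = g ξ := fun y hy => by
    obtain ⟨z, hz, rfl⟩ := Flat.generalizingMap g (a := ξ) hy
    rw [hξ z hz]
  refine le_antisymm (FlatMisc.FlatFibreDimGen.fibreDimAt_le_of_generization g (hξw.map g.continuous) r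
    (fun x hx => (h x (hx ▸ hmax)).le) w rfl) ?_
  have h2 := FibSemi.topDim_closure_le_fibreDimAt g hξw
  rw [FibSemi.topDim_closure_inter_fibre_eq, ← GUOpen.fibreDimAt_of_max g (fun z _ hz => hξ z hz),
    h ξ hmax] at h2
  exact h2

/-- The universal version, together with domination of components. -/
theorem universally_of_flat {T B : Scheme.{u}} (g : T ⟶ B) [Flat g] [LocallyOfFiniteType g] (r : ℕ)
    (h : ∀ w, (∀ y, y ⤳ g w → y = g w) → FlatMor.fibreDimAt g w = r) {B' : Scheme.{u}} (k : B' ⟶ B) :
    (∀ w : ↥(pullback g k), FlatMor.fibreDimAt (pullback.snd g k) w = r) ∧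
      ∀ C ∈ irreducibleComponents ↥(pullback g k),
        closure ((pullback.snd g k).base '' C) ∈ irreducibleComponents ↥B' := by
  refine ⟨fun w => ?_, fun C hC => ?_⟩
  · rw [AlgSpD.fibreDimAt_of_isPullback g (IsPullback.of_hasPullback g k) w]
    exact fibreDimAt_eq_of_flat g r h _
  · obtain ⟨ξ, hξ⟩ := QuasiSober.sober hC.1 (isClosed_of_mem_irreducibleComponents C hC)
    have hmax : ∀ y, y ⤳ pullback.snd g k ξ → y = pullback.snd g k ξ := fun y hy => by
      obtain ⟨z, hz, rfl⟩ := Flat.generalizingMap (pullback.snd g k) (a := ξ) hy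
      rw [QSect.max_of_component hC hξ z hz]
    have hcl : closure ((pullback.snd g k).base '' C) = closure {pullback.snd g k ξ} := by
      refine subset_antisymm (closure_minimal ?_ isClosed_closure)
        (closure_mono (Set.singleton_subset_iff.2 ⟨ξ, hξ.mem, rfl⟩))
      rintro _ ⟨c, hc, rfl⟩
      exact specializes_iff_mem_closure.1 ((hξ.specializes hc).map (pullback.snd g k).continuous)
    rw [hcl]
    exact FibBound.closure_mem_irreducibleComponents hmax

/-- Local fibre dimensions of the reduced closure of a point in its own fibre. -/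
theorem fibreDimAt_closure {X S Z : Scheme.{u}} (p : X ⟶ S) [LocallyOfFiniteType p] (z : X) (r : ℕ)
    (hr : topologicalKrullDim ↥(closure ({p.asFiber z} : Set ↥(p.fiber (p.base z)))) = r)
    (ι : Z ⟶ X) [IsClosedImmersion ι] (hZ : Set.range ι.base = closure {z})
    (a : Z) (ha : (ι ≫ p) a = p z) : FlatMor.fibreDimAt (ι ≫ p) a = r := by
  obtain ⟨c, hc⟩ : z ∈ Set.range ι.base := hZ ▸ subset_closure rfl
  obtain ⟨c', -, hfc', hmax', -, -, e', -, -, hfd, he', -⟩ := FibSemi.exists_max_fibre (ι ≫ p) a
  have hcc : c ⤳ c' := by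
    refine ι.isEmbedding.specializes_iff.1 ?_
    rw [show ι c = z from hc]
    exact specializes_iff_mem_closure.2 (hZ ▸ Set.mem_range_self c')
  have hc' : c = c' := hmax' c (by
    show p (ι c) = (ι ≫ p) a
    rw [show ι c = z from hc, ha]) hcc
  subst hc'
  rw [hfd, ← he', EquidimPt.specs_closedImmersion ι p c, show ι c = z from hc,
    ← FibSemi.topDim_closure_inter_fibre_eq p z (p z), ← hr]
  -- compare the closure in the fibre with the closure in the total space
  let e := p.fiberι (p z)
  have hcl : closure ({p.asFiber z} : Set ↥(p.fiber (p.base z))) = e ⁻¹' closure {z} := by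
    rw [e.isEmbedding.closure_eq_preimage_closure_image, Set.image_singleton, p.fiberι_asFiber]
  let g : ↥(closure ({p.asFiber z} : Set ↥(p.fiber (p.base z)))) → ↥(closure {z} ∩ p ⁻¹' {p z}) :=
    fun v => ⟨e v.1, hcl.le v.2, (p.range_fiberι (p z)).le ⟨v.1, rfl⟩⟩
  have hg : IsInducing g := by
    refine IsInducing.of_comp (Continuous.subtype_mk (e.continuous.comp continuous_subtype_val) _)
      continuous_subtype_val ?_
    exact e.isEmbedding.isInducing.comp IsInducing.subtypeVal
  have hbij : Function.Bijective g := by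
    refine ⟨fun v w hvw => Subtype.ext (e.isEmbedding.injective (congrArg Subtype.val hvw)), fun w => ?_⟩
    obtain ⟨v, hv⟩ : w.1 ∈ Set.range e := (p.range_fiberι (p z)).ge w.2.2
    exact ⟨⟨v, hcl.ge (show e v ∈ closure {z} from hv ▸ w.2.1)⟩, Subtype.ext hv⟩
  exact (IsHomeomorph.topologicalKrullDim_eq g
    (isHomeomorph_iff_exists_homeomorph.2 ⟨(Equiv.ofBijective g hbij).toHomeomorphOfIsInducing hg, rfl⟩)).symm

/-- Points of `Z` over maximal points of the base have local fibre dimension `r`. -/
theorem fibreDimAt_of_max {X S Z : Scheme.{u}} (p : X ⟶ S) [LocallyOfFiniteType p] (z : X) (r : ℕ)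
    (hr : topologicalKrullDim ↥(closure ({p.asFiber z} : Set ↥(p.fiber (p.base z)))) = r)
    (ι : Z ⟶ X) [IsClosedImmersion ι] (hZ : Set.range ι.base = closure {z})
    (a : Z) (ha : ∀ y, y ⤳ (ι ≫ p) a → y = (ι ≫ p) a) : FlatMor.fibreDimAt (ι ≫ p) a = r := by
  refine fibreDimAt_closure p z r hr ι hZ a (ha (p z) ?_).symm
  exact (specializes_iff_mem_closure.2 (hZ ▸ Set.mem_range_self a)).map p.continuous

end Groth.Agent.FlatClosEq96
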