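import Groth.Agent.FlatClosEq96.Closure
import Groth.Agent.PurCurve.Main
import Groth.Prelude.Def_Cyc

/-!
Lengths of local rings of flat closures.
-/

set_option autoImplicit false
universe u
open CategoryTheory AlgebraicGeometry Limits Topology TopologicalSpace

namespace Groth.Agent.FlatClosEq96

variable {R : Type u} [CommRing R] [IsDomain R] [IsDiscreteValuationRing R]

local notation "k₀" => Spec.map (CommRingCat.ofHom (algebraMap R (FractionRing R)))

/-- Lengths of rings over themselves are invariant under isomorphism. -/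
theorem length_self_congr {A B : Type u} [CommRing A] [CommRing B] (e : A ≃+* B) :
    Module.length A A = Module.length B B :=
  WithBot.coe_injective (by
    rw [Module.coe_length, Module.coe_length]
    exact Order.krullDim_eq_of_orderIso e.idealComapOrderIso.symm)

/-- A flat scheme over a discrete valuation ring has local rings of infinite length on the closed fibre. -/
theorem length_eq_top {Y : Scheme.{u}} (q : Y ⟶ Spec (CommRingCat.of R)) [Flat q] (w : Y)
    (hw : q w = IsLocalRing.closedPoint R) : Module.length (Y.presheaf.stalk w) (Y.presheaf.stalk w) = ⊤ := by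
  by_contra hne
  haveI : IsFiniteLength (Y.presheaf.stalk w) (Y.presheaf.stalk w) := Module.length_ne_top_iff.1 hne
  haveI : IsArtinianRing (Y.presheaf.stalk w) :=
    (isFiniteLength_iff_isNoetherian_isArtinian.1 ‹_›).2
  obtain ⟨ϖ, hϖ⟩ := IsDiscreteValuationRing.exists_irreducible R
  let z : PrimeSpectrum R := q w
  let O := (Spec (CommRingCat.of R)).presheaf.stalk (q w)
  let germ : R →+* O := (StructureSheaf.toStalk R z).hom
  have hflat : (q.stalkMap w).hom.Flat := Flat.stalkMap q w
  let A := Y.presheaf.stalk w
  letI := (q.stalkMap w).hom.toAlgebra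
  haveI : Module.Flat O A := hflat
  haveI : IsLocalHom (algebraMap O A) := inferInstanceAs (IsLocalHom (q.stalkMap w).hom)
  letI : Algebra R O := StructureSheaf.stalkAlgebra R z
  haveI : IsLocalization.AtPrime O z.asIdeal := StructureSheaf.IsLocalization.to_stalk R z
  have hmem : ϖ ∈ z.asIdeal := by
    rw [show z = IsLocalRing.closedPoint R from hw]
    show ϖ ∈ IsLocalRing.maximalIdeal R
    rw [hϖ.maximalIdeal_eq]
    exact Ideal.mem_span_singleton_self ϖ
  have hnu : ¬ IsUnit (algebraMap R O ϖ) := by
    rw [IsLocalization.AtPrime.isUnit_to_map_iff O z.asIdeal]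
    exact fun h => h hmem
  haveI : IsDomain O := IsLocalization.isDomain_of_le_nonZeroDivisors O z.asIdeal.primeCompl_le_nonZeroDivisors
  have h0 : algebraMap R O ϖ ≠ 0 := fun h => hϖ.ne_zero
    (IsLocalization.injective O z.asIdeal.primeCompl_le_nonZeroDivisors (by rw [h, map_zero]))
  have hreg : algebraMap O A (algebraMap R O ϖ) ∈ nonZeroDivisors A := by
    refine mem_nonZeroDivisors_iff_right.2 fun m hm => ?_
    have htor : Submodule.torsion O A = ⊥ := Module.Flat.torsion_eq_bot
    have : m ∈ Submodule.torsion O A := ⟨⟨algebraMap R O ϖ, mem_nonZeroDivisors_of_ne_zero h0⟩, by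
      show algebraMap O A (algebraMap R O ϖ) * m = 0
      rw [mul_comm]; exact hm⟩
    rwa [htor, Submodule.mem_bot] at this
  exact hnu (IsLocalHom.map_nonunit _ (IsArtinianRing.isUnit_of_mem_nonZeroDivisors hreg))

/-- The cycle of the flat closure is the image of the cycle of the generic fibre. -/
theorem subschemeFun_eq {P T P' T' : Scheme.{u}} (π : P ⟶ Spec (CommRingCat.of R)) (j : T ⟶ P)
    (πT : T ⟶ Spec (CommRingCat.of (FractionRing R))) [IsOpenImmersion j.toImage] [Flat (j.imageι ≫ π)]
    (H : IsPullback j.toImage πT (j.imageι ≫ π) k₀)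
    (c : j.image ⟶ P') [IsPreimmersion c] (c' : T ⟶ T') (m : T' ⟶ P') [IsPreimmersion m]
    (hc : j.toImage ≫ c = c' ≫ m) (t : P') :
    Cyc.subschemeFun (fun _ => (0 : ℤ)) 0 c t =
      ∑ᶠ t' ∈ {t' | m t' = t}, Cyc.subschemeFun (fun _ => (0 : ℤ)) 0 c' t' := by
  classical
  have hcinj : Function.Injective c := c.isEmbedding.injective
  have hminj : Function.Injective m := m.isEmbedding.injective
  have hc'inj : Function.Injective c' := fun a b hab => by
    refine j.toImage.isOpenEmbedding.injective (hcinj ?_)
    rw [← Scheme.Hom.comp_apply, ← Scheme.Hom.comp_apply, hc, Scheme.Hom.comp_apply, Scheme.Hom.comp_apply, hab]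
  have hcy : ∀ y, c (j.toImage y) = m (c' y) := fun y => by
    rw [← Scheme.Hom.comp_apply, hc, Scheme.Hom.comp_apply]
  simp only [Cyc.subschemeFun, if_true]
  by_cases ht : ∃ y, c (j.toImage y) = t
  · obtain ⟨y, rfl⟩ := ht
    rw [show {t' | m t' = c (j.toImage y)} = {c' y} from Set.ext fun t' =>
      ⟨fun h => hminj (h.trans (hcy y)), fun h => by rw [Set.mem_setOf_eq, h, hcy]⟩,
      finsum_mem_singleton,
      show {z | c' z = c' y} = {y} from Set.ext fun z => ⟨fun h => hc'inj h, fun h => congrArg c' h⟩,
      show {z | c z = c (j.toImage y)} = {j.toImage y} from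
        Set.ext fun z => ⟨fun h => hcinj h, fun h => congrArg c h⟩,
      finsum_mem_singleton, finsum_mem_singleton]
    rw [length_self_congr (asIso (j.toImage.stalkMap y)).commRingCatIsoToRingEquiv]
  · rw [finsum_mem_eq_zero_of_forall_eq_zero, finsum_mem_eq_zero_of_forall_eq_zero]
    · intro t' ht'
      refine finsum_mem_eq_zero_of_forall_eq_zero fun y hy => absurd ⟨y, ?_⟩ ht
      rw [hcy, show c' y = t' from hy]
      exact ht'
    · intro w hw
      have hcl : (j.imageι ≫ π) w = IsLocalRing.closedPoint R := by
        let b : PrimeSpectrum R := (j.imageι ≫ π) w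
        by_contra hne
        have hb : b.asIdeal = ⊥ := by
          by_contra h
          exact hne (PrimeSpectrum.ext (IsLocalRing.eq_maximalIdeal (b.isPrime.isMaximal h)))
        obtain ⟨y, hy, -⟩ := Scheme.exists_preimage_of_isPullback H w
          (⟨⊥, Ideal.isPrime_bot⟩ : PrimeSpectrum (FractionRing R)) (PrimeSpectrum.ext (by
            show b.asIdeal = Ideal.comap (algebraMap R (FractionRing R)) ⊥
            rw [hb, Ideal.comap_bot_of_injective _ (IsFractionRing.injective R (FractionRing R))]))
        exact ht ⟨y, by rw [hy]; exact hw⟩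
      rw [length_eq_top (j.imageι ≫ π) w hcl]
      rfl

end Groth.Agent.FlatClosEq96
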