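import Groth.Agent.FlatClosEq96.Core
import Groth.Agent.BlowUp.Basic
import Groth.Prelude.Def_BlowUp2

/-!
Strict transforms over maximal points of a blow-up.
-/

set_option autoImplicit false
universe u
open CategoryTheory AlgebraicGeometry Limits Topology TopologicalSpace

namespace Groth.Agent.FlatClosEq96

/-- A closed immersion hitting a whole fibre preserves the fibre dimension. -/
theorem fibreDimAt_closedImmersion {Z X Y : Scheme.{u}} (i : Z ⟶ X) [IsClosedImmersion i] (f : X ⟶ Y)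
    [LocallyOfFiniteType f] (w : Z) (h : ∀ x, f x = (i ≫ f) w → x ∈ Set.range i) :
    FlatMor.fibreDimAt (i ≫ f) w = FlatMor.fibreDimAt f (i w) := by
  refine le_antisymm (EquidimPt.fibreDimAt_closedImmersion_le i f w) ?_
  obtain ⟨c, hcw, hfc, -, -, -, e', -, -, hfd, hc, -⟩ := FibSemi.exists_max_fibre f (i w)
  obtain ⟨c', rfl⟩ := h c hfc
  rw [hfd, ← hc, ← EquidimPt.specs_closedImmersion i f c']
  exact (EquidimPt.le_fibreDimAt (i ≫ f) _).trans
    (EquidimPt.fibreDimAt_mono (i ≫ f) (i.isEmbedding.specializes_iff.1 hcw))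

/-- An effective Cartier divisor contains no maximal point. -/
theorem not_mem_support_of_max {X : Scheme.{u}} {𝓔 : X.IdealSheafData} (hE : BlowUp.IsEffCartierIdeal 𝓔)
    {η : X} (hη : ∀ y, y ⤳ η → y = η) : η ∉ (𝓔.support : Set X) := by
  intro hmem
  obtain ⟨U, hηU, a, ha, hI⟩ := hE η
  have hU : IsAffineOpen U.1 := U.2
  have h1 : η ∈ X.zeroLocus (U := U.1) (𝓔.ideal U : Set Γ(X, U.1)) :=
    ((Scheme.IdealSheafData.coe_support_inter 𝓔 U).le ⟨hmem, hηU⟩).1
  have h2 : η ∉ X.basicOpen a := (Scheme.mem_zeroLocus_iff _ _ _).1 h1 a (by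
    rw [hI]; exact Ideal.mem_span_singleton_self a)
  let P := hU.primeIdealOf ⟨η, hηU⟩
  have hP : hU.fromSpec P = η := hU.fromSpec_primeIdealOf _
  have haP : a ∈ P.asIdeal := by
    by_contra haP
    refine h2 ?_
    have h3 : P ∈ hU.fromSpec ⁻¹ᵁ X.basicOpen a := by
      rw [hU.fromSpec_preimage_basicOpen]; exact haP
    rw [← hP]
    exact h3
  have hmin : P.asIdeal ∈ minimalPrimes Γ(X, U.1) := by
    refine ⟨⟨P.isPrime, bot_le⟩, ?_⟩
    rintro Q ⟨hQ, -⟩ hQP
    have hs : hU.fromSpec ⟨Q, hQ⟩ ⤳ η := by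
      rw [← hP]
      exact ((PrimeSpectrum.le_iff_specializes ⟨Q, hQ⟩ P).1 hQP).map hU.fromSpec.continuous
    exact (congrArg PrimeSpectrum.asIdeal
      (hU.fromSpec.isOpenEmbedding.injective ((hη _ hs).trans hP.symm))).ge
  exact Set.disjoint_left.1 (Ideal.disjoint_nonZeroDivisors_of_mem_minimalPrimes hmin) haP ha

/-- The images of maximal points of a blow-up. -/
theorem max_of_blowUp {S' S : Scheme.{u}} {b : S' ⟶ S} {𝓘 : S.IdealSheafData} (hb : BlowUp.IsBlowUp b 𝓘)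
    {η : S'} (hη : ∀ y, y ⤳ η → y = η) :
    b η ∉ (𝓘.support : Set S) ∧ ∀ y, y ⤳ b η → y = b η := by
  have h1 : b η ∉ (𝓘.support : Set S) := fun h => by
    refine not_mem_support_of_max hb.1 hη ?_
    rw [Scheme.IdealSheafData.support_comap]
    exact h
  refine ⟨h1, fun y hy => ?_⟩
  let W : S.Opens := 𝓘.support.compl
  haveI := BlowUp.Basic.isIso_restrict hb W disjoint_compl_left
  have hyW : y ∈ W := hy.mem_open W.2 h1
  obtain ⟨y', hy'⟩ := (asIso (b ∣_ W)).hom.surjective ⟨y, hyW⟩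
  have hval : ∀ v, ((b ∣_ W) v).1 = b v.1 := fun v => by
    show W.ι ((b ∣_ W) v) = b ((b ⁻¹ᵁ W).ι v)
    rw [← Scheme.Hom.comp_apply, morphismRestrict_ι, Scheme.Hom.comp_apply]
  have hy'' : b y'.1 = y := (hval y').symm.trans (congrArg Subtype.val hy')
  have hs : y' ⤳ (⟨η, h1⟩ : (b ⁻¹ᵁ W).toScheme) := by
    refine (b ∣_ W).isOpenEmbedding.isInducing.specializes_iff.1 ?_
    refine (subtype_specializes_iff _ _).2 ?_
    exact (specializes_of_eq ((hval y').trans hy'')).trans (hy.trans (specializes_of_eq (hval ⟨η, h1⟩).symm))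
  rw [← hy'', hη _ ((subtype_specializes_iff _ _).1 hs)]

/-- The ideal of sections killed by powers of the exceptional ideal is trivial off the exceptional locus. -/
theorem mem_support_of_killed {P : Scheme.{u}} (𝓔 𝒥 : P.IdealSheafData)
    (h𝒥 : ∀ (V : P.affineOpens) (a : Γ(P, V.1)), a ∈ 𝒥.ideal V →
      BlowUp.KilledByPowerNear 𝓔 (Coh.structureModule P) V a)
    (x : P) (hx : x ∉ (𝓔.support : Set P)) : x ∈ (𝒥.support : Set P) := by
  obtain ⟨_, ⟨V, hV, rfl⟩, hxV, hVsub⟩ := P.isBasis_affineOpens.exists_subset_of_mem_open hx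
    𝓔.support.isClosed.isOpen_compl
  have hV : IsAffineOpen V := hV
  have htop : 𝓔.ideal ⟨V, hV⟩ = ⊤ := by
    rw [← PrimeSpectrum.zeroLocus_empty_iff_eq_top]
    refine Set.image_eq_empty.1 ((hV.fromSpec_image_zeroLocus _).trans ?_)
    refine (Scheme.IdealSheafData.coe_support_inter 𝓔 ⟨V, hV⟩).symm.trans ?_
    exact Set.disjoint_iff_inter_eq_empty.1 (Set.disjoint_left.2 fun y h1 h2 => hVsub h2 h1)
  have hbot : 𝒥.ideal ⟨V, hV⟩ = ⊥ := by
    refine eq_bot_iff.2 fun m hm => ?_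
    obtain ⟨n, hn⟩ := h𝒥 ⟨V, hV⟩ m hm
    have h1 := hn 1 (by rw [Scheme.IdealSheafData.ideal_pow, Pi.pow_apply, htop, Ideal.top_pow]; trivial)
    exact (Ideal.mem_bot).2 ((one_smul Γ(P, V) m).symm.trans h1)
  refine ((Scheme.IdealSheafData.coe_support_inter 𝒥 ⟨V, hV⟩).ge ⟨?_, hxV⟩).1
  rw [hbot, Scheme.mem_zeroLocus_iff]
  intro g hg
  rw [show g = 0 from hg, Scheme.basicOpen_zero]
  exact id

end Groth.Agent.FlatClosEq96
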