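import Groth.Agent.FlatClosEq96.Closure
import Groth.Agent.FlatClosEq96.Strict
import Groth.Agent.PurCurve.Main

/-!
The flat closure as base change of a flat strict transform.
-/

set_option autoImplicit false
universe u
open CategoryTheory AlgebraicGeometry Limits Topology TopologicalSpace

namespace Groth.Agent.FlatClosEq96

variable {R : Type u} [CommRing R] [IsDomain R] [IsDiscreteValuationRing R]

local notation "k₀" => Spec.map (CommRingCat.ofHom (algebraMap R (FractionRing R)))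

/-- The scheme-theoretic image of the generic fibre lies in every flat closed subscheme containing it. -/
theorem ker_le_of_flat {P T Y : Scheme.{u}} (π : P ⟶ Spec (CommRingCat.of R)) (j : T ⟶ P)
    (πT : T ⟶ Spec (CommRingCat.of (FractionRing R))) (H : IsPullback j πT π k₀)
    (i : Y ⟶ P) [IsClosedImmersion i] [Flat (i ≫ π)] : j.ker ≤ i.ker := by
  haveI : IsOpenImmersion k₀ := PurCurve.isOpenImmersion_gen R (FractionRing R)
  let q := i ≫ π
  let e := pullback.fst q k₀
  let v := H.lift (e ≫ i) (pullback.snd q k₀) (by rw [Category.assoc]; exact pullback.condition)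
  have hv : v ≫ j = e ≫ i := H.lift_fst _ _ _
  have h1 : j.ker ≤ (e ≫ i).ker := hv ▸ Scheme.Hom.le_ker_comp v j
  refine fun V => (h1 V).trans ?_
  intro a ha
  have h2 : (e ≫ i).app V.1 a = 0 := Scheme.Hom.ideal_ker_le _ _ ha
  rw [Scheme.Hom.ker_apply, RingHom.mem_ker]
  set W := i ⁻¹ᵁ V.1 with hW
  have hWa : IsAffineOpen W := V.2.preimage i
  set c := i.app V.1 a with hc
  have h3 : e.app W c = 0 := by
    rw [Scheme.Hom.comp_app] at h2
    exact h2
  obtain ⟨ϖ, hϖ⟩ := IsDiscreteValuationRing.exists_irreducible R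
  let φ : R →+* Γ(Y, W) := (q.appLE ⊤ W le_top).hom.comp (Scheme.ΓSpecIso (CommRingCat.of R)).inv.hom
  have hflat : φ.Flat := by
    have h0 : (q.appLE ⊤ W le_top).hom.Flat :=
      HasRingHomProperty.appLE @Flat q inferInstance ⟨⊤, isAffineOpen_top _⟩ ⟨W, hWa⟩ le_top
    exact (RingHom.Flat.of_bijective
      (ConcreteCategory.bijective_of_isIso (Scheme.ΓSpecIso (CommRingCat.of R)).inv)).comp h0
  letI := φ.toAlgebra
  haveI : Module.Flat R Γ(Y, W) := hflat
  have hnz : ∀ (n : ℕ) (m : Γ(Y, W)), φ ϖ ^ n * m = 0 → m = 0 := by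
    intro n m hm
    have htor : Submodule.torsion R Γ(Y, W) = ⊥ := Module.Flat.torsion_eq_bot
    have : m ∈ Submodule.torsion R Γ(Y, W) :=
      ⟨⟨ϖ ^ n, mem_nonZeroDivisors_of_ne_zero (pow_ne_zero _ hϖ.ne_zero)⟩, by
        show φ (ϖ ^ n) * m = 0
        rwa [map_pow]⟩
    rwa [htor, Submodule.mem_bot] at this
  let D : Y.Opens := Y.basicOpen (φ ϖ)
  have hDW : D ≤ W := Y.basicOpen_le _
  have hDr : D ≤ e.opensRange := by
    intro y hy
    have hk : q y ∈ Set.range k₀ := by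
      let b : PrimeSpectrum R := q y
      have hb : ϖ ∉ b.asIdeal := by
        have h4 : y ∈ q ⁻¹ᵁ ((Spec (CommRingCat.of R)).basicOpen
            ((Scheme.ΓSpecIso (CommRingCat.of R)).inv ϖ)) := by
          rw [Scheme.preimage_basicOpen]
          have h6 : y ∈ Y.basicOpen ((Y.presheaf.map (homOfLE (le_top : W ≤ q ⁻¹ᵁ ⊤)).op)
              (q.app ⊤ ((Scheme.ΓSpecIso (CommRingCat.of R)).inv ϖ))) := hy
          exact ((Y.basicOpen_res _ _).le h6).2
        have h4' : b ∈ ((Spec (CommRingCat.of R)).basicOpen ((Scheme.ΓSpecIso (CommRingCat.of R)).inv ϖ) :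
          (Spec (CommRingCat.of R)).Opens) := h4
        rw [basicOpen_eq_of_affine] at h4'
        exact h4'
      refine ⟨(⟨⊥, Ideal.isPrime_bot⟩ : PrimeSpectrum (FractionRing R)), PrimeSpectrum.ext ?_⟩
      show Ideal.comap (algebraMap R (FractionRing R)) ⊥ = b.asIdeal
      rw [Ideal.comap_bot_of_injective _ (IsFractionRing.injective R (FractionRing R))]
      by_contra hne
      have hmax : b.asIdeal.IsMaximal := b.isPrime.isMaximal (Ne.symm hne)
      rw [IsLocalRing.eq_maximalIdeal hmax, hϖ.maximalIdeal_eq] at hb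
      exact hb (Ideal.mem_span_singleton_self ϖ)
    show y ∈ Set.range e
    rw [Scheme.Pullback.range_fst]
    exact hk
  have hres : Y.presheaf.map (homOfLE hDW).op c = 0 := by
    haveI := Scheme.Hom.isIso_app e D hDr
    refine (map_eq_zero_iff _ (ConcreteCategory.bijective_of_isIso (e.app D)).1).1 ?_
    rw [← CommRingCat.comp_apply, e.naturality, CommRingCat.comp_apply, h3, map_zero]
  letI : Algebra Γ(Y, W) Γ(Y, D) := (Y.presheaf.map (homOfLE hDW).op).hom.toAlgebra
  haveI : IsLocalization.Away (φ ϖ) Γ(Y, D) := hWa.isLocalization_basicOpen (φ ϖ)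
  obtain ⟨⟨_, n, rfl⟩, hn⟩ := (IsLocalization.map_eq_zero_iff (Submonoid.powers (φ ϖ)) Γ(Y, D) c).1 hres
  exact hnz n c hn

/-- The inverse image of a nonzero ideal on a discrete valuation ring is effective Cartier. -/
theorem isEffCartierIdeal_dvr (𝓔 : (Spec (CommRingCat.of R)).IdealSheafData)
    (h : (⟨⊥, Ideal.isPrime_bot⟩ : PrimeSpectrum R) ∉ (𝓔.support : Set (Spec (CommRingCat.of R)))) :
    BlowUp.IsEffCartierIdeal 𝓔 := by
  intro x
  let U : (Spec (CommRingCat.of R)).affineOpens := ⟨⊤, isAffineOpen_top _⟩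
  have e : R ≃+* Γ(Spec (CommRingCat.of R), ⊤) :=
    (Scheme.ΓSpecIso (CommRingCat.of R)).symm.commRingCatIsoToRingEquiv
  haveI : IsPrincipalIdealRing Γ(Spec (CommRingCat.of R), ⊤) :=
    IsPrincipalIdealRing.of_surjective e.toRingHom e.surjective
  haveI : IsDomain Γ(Spec (CommRingCat.of R), ⊤) := MulEquiv.isDomain R e.toMulEquiv.symm
  obtain ⟨a, ha⟩ := (IsPrincipalIdealRing.principal (𝓔.ideal U)).principal
  have ha : 𝓔.ideal U = Ideal.span {a} := ha
  refine ⟨U, trivial, a, mem_nonZeroDivisors_of_ne_zero fun h0 => h ?_, ha⟩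
  refine ((Scheme.IdealSheafData.coe_support_inter 𝓔 U).ge ⟨?_, trivial⟩).1
  rw [ha, h0]
  refine (Scheme.mem_zeroLocus_iff _ _ _).2 fun g hg => ?_
  have hg0 : g = 0 := by
    have : g ∈ Ideal.span {(0 : Γ(Spec (CommRingCat.of R), ⊤))} := hg
    rwa [Ideal.span_singleton_eq_bot.2 rfl, Ideal.mem_bot] at this
  rw [hg0, Scheme.basicOpen_zero]
  exact id

/-- Sections killed by powers of the exceptional ideal vanish off the exceptional locus. -/
theorem le_ker_of_killed {P : Scheme.{u}} (𝓔 𝒥 : P.IdealSheafData)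
    (h𝒥 : ∀ (V : P.affineOpens) (a : Γ(P, V.1)), a ∈ 𝒥.ideal V →
      BlowUp.KilledByPowerNear 𝓔 (Coh.structureModule P) V a)
    {T : Scheme.{u}} (m : T ⟶ P) (hm : ∀ t, m t ∉ (𝓔.support : Set P)) : 𝒥 ≤ m.ker := by
  refine Scheme.IdealSheafData.le_ofIdeals_iff.2 fun V a ha => ?_
  rw [RingHom.mem_ker]
  refine T.IsSheaf.section_ext fun t ht => ?_
  obtain ⟨_, ⟨V', hV', rfl⟩, htV', hsub⟩ := P.isBasis_affineOpens.exists_subset_of_mem_open
    (show m t ∈ (V.1 : Set P) ∩ (𝓔.support : Set P)ᶜ from ⟨ht, hm t⟩)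
    (V.1.2.inter 𝓔.support.isClosed.isOpen_compl)
  have hV' : IsAffineOpen V' := hV'
  have hle : V' ≤ V.1 := fun y hy => (hsub hy).1
  have hbot : 𝒥.ideal ⟨V', hV'⟩ = ⊥ := by
    refine eq_bot_iff.2 fun b hb => ?_
    obtain ⟨n, hn⟩ := h𝒥 ⟨V', hV'⟩ b hb
    have htop : 𝓔.ideal ⟨V', hV'⟩ = ⊤ := by
      rw [← PrimeSpectrum.zeroLocus_empty_iff_eq_top]
      refine Set.image_eq_empty.1 ((hV'.fromSpec_image_zeroLocus _).trans ?_)
      refine (Scheme.IdealSheafData.coe_support_inter 𝓔 ⟨V', hV'⟩).symm.trans ?_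
      exact Set.disjoint_iff_inter_eq_empty.1 (Set.disjoint_left.2 fun y h1 h2 => (hsub h2).2 h1)
    have h1 := hn 1 (by rw [Scheme.IdealSheafData.ideal_pow, Pi.pow_apply, htop, Ideal.top_pow]; trivial)
    exact (Ideal.mem_bot).2 ((one_smul Γ(P, V') b).symm.trans h1)
  have h0 : P.presheaf.map (homOfLE hle).op a = 0 := by
    have h9 : P.presheaf.map (homOfLE hle).op a ∈ 𝒥.ideal ⟨V', hV'⟩ := by
      rw [← 𝒥.map_ideal (U := ⟨V', hV'⟩) (V := V) hle]
      exact Ideal.mem_map_of_mem _ ha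
    rwa [hbot, Ideal.mem_bot] at h9
  refine ⟨m ⁻¹ᵁ V', fun y hy => hle hy, htV', ?_⟩
  simp only [map_zero]
  have h10 := congr(($(m.naturality (homOfLE hle).op)) a)
  simp only [CommRingCat.comp_apply, h0, map_zero] at h10
  exact h10.symm

end Groth.Agent.FlatClosEq96
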